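import Groth.Agent.TameSep.Alg
import Groth.Agent.HurwitzAlg.Chart
import Groth.Prelude.Def_CurvBase

/-! Local rings of smooth curves; tame points. -/

set_option autoImplicit false
set_option backward.isDefEq.respectTransparency false
set_option backward.isDefEq.respectTransparency.types false
set_option linter.style.haveILetI false

universe u

open CategoryTheory CategoryTheory.Limits AlgebraicGeometry TopologicalSpace

namespace Groth.Agent.TameSep

attribute [local instance] Curv2.stalkAlgebra

theorem stalk_props {k : Type u} [Field k] (X : Scheme.{u}) [X.Over (Spec (CommRingCat.of k))]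
    [SmoothOfRelativeDimension 1 (X ↘ Spec (CommRingCat.of k))] (x : X) :
    Algebra.FormallySmooth k (X.presheaf.stalk x) ∧ Algebra.EssFiniteType k (X.presheaf.stalk x) ∧
      ∃ ω : Ω[(X.presheaf.stalk x)⁄k], Submodule.span (X.presheaf.stalk x) {ω} = ⊤ := by
  let f := X ↘ Spec (CommRingCat.of k)
  obtain ⟨U, hU, V, hV, hxV, e, hstd⟩ :=
    SmoothOfRelativeDimension.exists_isStandardSmoothOfRelativeDimension (n := 1) (f := f) x
  obtain rfl : U = ⊤ := by
    ext z
    simp only [TopologicalSpace.Opens.coe_top, Set.mem_univ, iff_true]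
    exact (Subsingleton.elim (f x : PrimeSpectrum k) z) ▸ e hxV
  let σ := (Scheme.ΓSpecIso (CommRingCat.of k)).symm.commRingCatIsoToRingEquiv
  letI algB : Algebra k Γ(X, V) := ((f.appLE ⊤ V e).hom.comp σ.toRingHom).toAlgebra
  haveI : Algebra.IsStandardSmoothOfRelativeDimension 1 k Γ(X, V) :=
    RingHom.isStandardSmoothOfRelativeDimension_respectsIso.2 (f.appLE ⊤ V e).hom σ hstd
  haveI : Algebra.IsStandardSmooth k Γ(X, V) := Algebra.IsStandardSmoothOfRelativeDimension.isStandardSmooth 1
  letI := X.presheaf.algebra_section_stalk ⟨x, hxV⟩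
  haveI := hV.isLocalization_stalk ⟨x, hxV⟩
  let p := (hV.primeIdealOf ⟨x, hxV⟩).asIdeal
  haveI : IsScalarTower k Γ(X, V) (X.presheaf.stalk x) := IsScalarTower.of_algebraMap_eq fun c => by
    show X.presheaf.germ ⊤ x trivial (Coh.toGlobal f c) =
      X.presheaf.germ V x hxV (f.appLE ⊤ V e ((Scheme.ΓSpecIso (CommRingCat.of k)).inv c))
    rw [Scheme.Hom.appLE]
    exact (X.presheaf.germ_res_apply (homOfLE e) x hxV _).symm
  haveI : Nontrivial Γ(X, V) := (algebraMap Γ(X, V) (X.presheaf.stalk x)).domain_nontrivial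
  haveI : Algebra.FormallyEtale Γ(X, V) (X.presheaf.stalk x) :=
    Algebra.FormallyEtale.of_isLocalization p.primeCompl
  refine ⟨Algebra.FormallySmooth.comp k Γ(X, V) (X.presheaf.stalk x), ?_, ?_⟩
  · haveI : Algebra.EssFiniteType Γ(X, V) (X.presheaf.stalk x) :=
      Algebra.EssFiniteType.of_isLocalization _ p.primeCompl
    exact Algebra.EssFiniteType.comp k Γ(X, V) _
  · haveI : Module.Finite Γ(X, V) Ω[Γ(X, V)⁄k] := inferInstance
    have hr : Module.finrank Γ(X, V) Ω[Γ(X, V)⁄k] = 1 := Module.finrank_eq_of_rank_eq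
      (Algebra.IsStandardSmoothOfRelativeDimension.rank_kaehlerDifferential 1)
    let b := Module.finBasisOfFinrankEq Γ(X, V) Ω[Γ(X, V)⁄k] hr
    let φ := KaehlerDifferential.map k k Γ(X, V) (X.presheaf.stalk x)
    haveI : IsLocalizedModule p.primeCompl φ := KaehlerDifferential.isLocalizedModule_map k _ _ _
    refine ⟨φ (b 0), top_unique fun z _ => ?_⟩
    obtain ⟨⟨m, s⟩, hms⟩ := IsLocalizedModule.surj p.primeCompl φ z
    have hm : m = b.repr m 0 • b 0 := by
      conv_lhs => rw [← b.sum_repr m]
      simp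
    have h1 : (s : Γ(X, V)) • z ∈ Submodule.span (X.presheaf.stalk x) {φ (b 0)} := by
      have hms' : (s : Γ(X, V)) • z = φ m := hms
      rw [hms', hm, map_smul, ← algebraMap_smul (X.presheaf.stalk x)]
      exact Submodule.smul_mem _ _ (Submodule.mem_span_singleton_self _)
    rw [← algebraMap_smul (X.presheaf.stalk x)] at h1
    exact (Submodule.smul_mem_iff_of_isUnit _ (IsLocalization.map_units (X.presheaf.stalk x) s)).mp h1

theorem isSeparable_of_tame {k : Type u} [Field k] (X Y : Scheme.{u}) [X.Over (Spec (CommRingCat.of k))]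
    [Y.Over (Spec (CommRingCat.of k))] [SmoothOfRelativeDimension 1 (X ↘ Spec (CommRingCat.of k))]
    (f : X ⟶ Y) (hf : f ≫ (Y ↘ Spec (CommRingCat.of k)) = X ↘ Spec (CommRingCat.of k))
    (x : X) (hx : IsClosed ({x} : Set X)) {e : ℕ}
    (he : (IsLocalRing.maximalIdeal (Y.presheaf.stalk (f.base x))).map (f.stalkMap x).hom =
      IsLocalRing.maximalIdeal (X.presheaf.stalk x) ^ e) (h2 : 2 ≤ e)
    (hsep : @Algebra.IsSeparable (Y.residueField (f.base x)) (X.residueField x) _ _
      (f.residueFieldMap x).hom.toAlgebra) :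
    @Algebra.IsSeparable k (X.residueField x) _ _ (Curv2.resAlgebra k X x) := by
  haveI : Smooth (X ↘ Spec (CommRingCat.of k)) := SmoothOfRelativeDimension.smooth 1 _
  obtain ⟨h1, h3, h4⟩ := stalk_props (k := k) X x
  haveI := h1
  haveI := h3
  haveI : IsLocallyNoetherian X := LocallyOfFiniteType.isLocallyNoetherian (X ↘ Spec (CommRingCat.of k))
  letI algAB : Algebra (Y.presheaf.stalk (f x)) (X.presheaf.stalk x) := (f.stalkMap x).hom.toAlgebra
  haveI : IsScalarTower k (Y.presheaf.stalk (f x)) (X.presheaf.stalk x) := IsScalarTower.of_algebraMap_eq fun c => by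
    show X.presheaf.germ ⊤ x trivial (Coh.toGlobal (X ↘ Spec (CommRingCat.of k)) c) =
      f.stalkMap x (Y.presheaf.germ ⊤ (f x) trivial (Coh.toGlobal (Y ↘ Spec (CommRingCat.of k)) c))
    rw [Scheme.Hom.germ_stalkMap_apply]
    simp only [← hf]
    rfl
  haveI : IsLocalHom (algebraMap (Y.presheaf.stalk (f x)) (X.presheaf.stalk x)) := f.toLRSHom.prop x
  obtain ⟨_, ⟨V, hV, rfl⟩, hxV, -⟩ :=
    X.isBasis_affineOpens.exists_subset_of_mem_open (Set.mem_univ x) isOpen_univ
  haveI : Module.Finite k (IsLocalRing.ResidueField (X.presheaf.stalk x)) :=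
    HurwitzAlg.finite_residueField (k := k) hV hxV hx
  haveI : Algebra.IsSeparable (IsLocalRing.ResidueField (Y.presheaf.stalk (f x)))
      (IsLocalRing.ResidueField (X.presheaf.stalk x)) := by
    have halg : ∀ (inst : Algebra (Y.residueField (f x)) (X.residueField x)),
        (∀ a, @algebraMap _ _ _ _ inst a = f.residueFieldMap x a) → inst = (f.residueFieldMap x).hom.toAlgebra :=
      fun inst h => Algebra.algebra_ext _ _ h
    have key : (show Algebra (Y.residueField (f x)) (X.residueField x) from
        (inferInstance : Algebra (IsLocalRing.ResidueField (Y.presheaf.stalk (f x)))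
          (IsLocalRing.ResidueField (X.presheaf.stalk x)))) = (f.residueFieldMap x).hom.toAlgebra :=
      halg _ fun a => by
        obtain ⟨a, rfl⟩ := IsLocalRing.residue_surjective a
        exact (ConcreteCategory.congr_hom (Scheme.residue_residueFieldMap f x) a).symm
    rw [← key] at hsep
    exact hsep
  exact isSeparable_residueField (k := k) (A := Y.presheaf.stalk (f x)) h4 h2 he

end Groth.Agent.TameSep
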