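import Groth.Agent.CartierEq.Basic
import Mathlib

/-! A residue field which is separable over the base at a ramified point. -/

set_option autoImplicit false
set_option linter.style.haveILetI false

universe u

open IsLocalRing

namespace Groth.Agent.TameSep

variable {k A B : Type u} [Field k] [CommRing A] [IsLocalRing A] [CommRing B] [IsLocalRing B] [IsNoetherianRing B]
  [Algebra k A] [Algebra k B] [Algebra A B] [IsScalarTower k A B] [IsLocalHom (algebraMap A B)]
  [Algebra.EssFiniteType k B] [Algebra.FormallySmooth k B]

theorem isSeparable_residueField (hcyc : ∃ ω : Ω[B⁄k], Submodule.span B {ω} = ⊤)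
    [Module.Finite k (ResidueField B)] [Algebra.IsSeparable (ResidueField A) (ResidueField B)] {e : ℕ} (h2 : 2 ≤ e)
    (he : (maximalIdeal A).map (algebraMap A B) = maximalIdeal B ^ e) :
    Algebra.IsSeparable k (ResidueField B) := by
  haveI : Algebra.EssFiniteType k (ResidueField B) := inferInstance
  suffices h : Subsingleton (Ω[(ResidueField B)⁄k]) by
    haveI : Algebra.FormallyUnramified k (ResidueField B) := ⟨h⟩
    exact Algebra.FormallyUnramified.isSeparable k (ResidueField B)
  by_contra hne
  let L := ResidueField B
  let ρ : A →+* L := algebraMap A L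
  obtain ⟨a, ha⟩ : ∃ a : A, KaehlerDifferential.D k L (algebraMap A L a) ≠ 0 := by
    by_contra! h
    apply hne
    haveI : IsScalarTower k (ResidueField A) L := IsScalarTower.of_algebraMap_eq fun c ↦ by
      rw [IsScalarTower.algebraMap_apply k A L, IsScalarTower.algebraMap_apply k A (ResidueField A),
        ← IsScalarTower.algebraMap_apply A (ResidueField A) L]
    haveI : Algebra.FormallyUnramified (ResidueField A) L := Algebra.FormallyUnramified.of_isSeparable _ _
    refine ⟨fun z w ↦ ?_⟩
    suffices hz : ∀ z : Ω[L⁄k], z = 0 by rw [hz z, hz w]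
    intro z
    obtain ⟨v, rfl⟩ := (KaehlerDifferential.exact_mapBaseChange_map k (ResidueField A) L z).mp (Subsingleton.elim _ _)
    induction v using TensorProduct.induction_on with
    | zero => exact map_zero _
    | add x y hx hy => rw [map_add, hx, hy, add_zero]
    | tmul l ω =>
      rw [KaehlerDifferential.mapBaseChange_tmul]
      suffices hω : KaehlerDifferential.map k k (ResidueField A) L ω = 0 by rw [hω, smul_zero]
      have hmem := KaehlerDifferential.span_range_derivation k (ResidueField A)
      have hω' : ω ∈ Submodule.span (ResidueField A) (Set.range (KaehlerDifferential.D k (ResidueField A))) :=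
        hmem ▸ Submodule.mem_top
      induction hω' using Submodule.span_induction with
      | mem x hx =>
        obtain ⟨c, rfl⟩ := hx
        obtain ⟨c, rfl⟩ := IsLocalRing.residue_surjective c
        rw [KaehlerDifferential.map_D]
        have := h c
        rwa [IsScalarTower.algebraMap_apply A (ResidueField A) L] at this
      | zero => exact map_zero _
      | add x y _ _ hx hy => rw [map_add, hx, hy, add_zero]
      | smul c x _ hx => rw [LinearMap.map_smul_of_tower, hx, smul_zero]
  obtain ⟨ω, hω⟩ := hcyc
  obtain ⟨c, hc⟩ := Submodule.mem_span_singleton.mp (hω ▸ (Submodule.mem_top : KaehlerDifferential.D k B (algebraMap A B a) ∈ ⊤))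
  have hcu : IsUnit c := by
    by_contra hcu
    apply ha
    have h1 := congrArg (KaehlerDifferential.map k k B L) hc
    rw [map_smul, KaehlerDifferential.map_D, ← IsScalarTower.algebraMap_apply A B L] at h1
    rw [← h1, ← algebraMap_smul L c, show algebraMap B L c = 0 from
      (IsLocalRing.residue_eq_zero_iff c).mpr ((mem_maximalIdeal c).mpr hcu), zero_smul]
  haveI : Algebra.FormallyUnramified A B := by
    refine ⟨⟨fun z w ↦ ?_⟩⟩
    suffices hz : ∀ z : Ω[B⁄A], z = 0 by rw [hz z, hz w]
    intro z
    obtain ⟨v, rfl⟩ := KaehlerDifferential.map_surjective k A B z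
    obtain ⟨b, rfl⟩ := Submodule.mem_span_singleton.mp (hω ▸ (Submodule.mem_top : v ∈ ⊤))
    have h0 : KaehlerDifferential.map k A B B (c • ω) = 0 := by
      rw [hc, KaehlerDifferential.map_D, Algebra.algebraMap_self_apply, Derivation.map_algebraMap]
    rw [map_smul] at h0
    rw [map_smul, hcu.smul_eq_zero.mp h0, smul_zero]
  haveI : Algebra.EssFiniteType A B := Algebra.EssFiniteType.of_comp k A B
  have hm := (Algebra.FormallyUnramified.map_maximalIdeal (R := A) (S := B)).symm.trans he
  have hbot : maximalIdeal B = ⊥ := by
    refine Submodule.eq_bot_of_le_smul_of_le_jacobson_bot (maximalIdeal B) _ (IsNoetherian.noetherian _) ?_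
      (maximalIdeal_le_jacobson _)
    rw [Ideal.smul_eq_mul, ← pow_two]
    exact hm.le.trans (Ideal.pow_le_pow_right h2)
  have hbij : Function.Bijective (algebraMap B L) := ⟨by
    rw [injective_iff_map_eq_zero]
    intro b hb
    have hbm : b ∈ maximalIdeal B := (IsLocalRing.residue_eq_zero_iff b).mp hb
    rw [hbot] at hbm
    exact (Submodule.mem_bot B).mp hbm, IsLocalRing.residue_surjective⟩
  let eq : B ≃ₐ[k] L := AlgEquiv.ofBijective (IsScalarTower.toAlgHom k B L) hbij
  haveI : Algebra.FormallySmooth k L := Algebra.FormallySmooth.of_equiv eq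
  obtain ⟨hf1, -, h3⟩ := CartierEq.cartier_equality k L
  haveI : Algebra.IsAlgebraic k L := Algebra.IsAlgebraic.of_finite k L
  rw [trdeg_eq_zero (R := k) (A := L), Module.finrank_zero_of_subsingleton (R := L) (M := Algebra.H1Cotangent k L)] at h3
  haveI := hf1
  exact hne (Module.finrank_zero_iff.mp (by simpa using h3))

end Groth.Agent.TameSep
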